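import Groth.Prelude.Def_GrSyz
import Groth.Agent.H3CAlg.FormsDim
import Mathlib.RingTheory.Polynomial.Basic
import Mathlib.RingTheory.Noetherian.Basic
import Mathlib.Tactic

/-!
# Homogeneous components in graded free modules over a `ℤ`-graded ring
-/

namespace Groth.Agent.H3CAlg.Syz

universe u v

open DirectSum

variable {R : Type u} [CommRing R] {σ' : Type u} [SetLike σ' R] [AddSubgroupClass σ' R] (𝒜 : ℤ → σ') [GradedRing 𝒜]

section Comp

variable {M : Type u} [AddCommGroup M] {τ : Type u} [SetLike τ M] [AddSubgroupClass τ M] (ℳ : ℤ → τ)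
  [DirectSum.Decomposition ℳ]

/-- homogeneous component -/
def P (j : ℤ) : M →+ M :=
  AddMonoidHom.mk' (fun m => (DirectSum.decompose ℳ m j : M)) fun x y => by
    rw [decompose_add, DirectSum.add_apply]
    rfl

theorem P_mem (j : ℤ) (x : M) : P ℳ j x ∈ ℳ j := (DirectSum.decompose ℳ x j).2

theorem P_of_mem {j : ℤ} {x : M} (h : x ∈ ℳ j) (i : ℤ) : P ℳ i x = if j = i then x else 0 := by
  rcases eq_or_ne j i with rfl | hne
  · rw [if_pos rfl]; exact decompose_of_mem_same ℳ h
  · rw [if_neg hne]; exact decompose_of_mem_ne ℳ h hne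

theorem P_eq_self_iff {j : ℤ} {x : M} : P ℳ j x = x ↔ x ∈ ℳ j :=
  ⟨fun h => h ▸ P_mem ℳ j x, fun h => by rw [P_of_mem ℳ h, if_pos rfl]⟩

theorem exists_sum_P (x : M) : ∃ s : Finset ℤ, x = ∑ j ∈ s, P ℳ j x := by
  classical
  exact ⟨(DirectSum.decompose ℳ x).support, (DirectSum.sum_support_decompose ℳ x).symm⟩

theorem P_smul [Module R M] [SetLike.GradedSMul 𝒜 ℳ] {e : ℤ} {x : M} (hx : x ∈ ℳ e) (c : R) (j : ℤ) :
    P ℳ j (c • x) = P 𝒜 (j - e) c • x := by
  classical
  obtain ⟨s, hs⟩ := exists_sum_P 𝒜 c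
  conv_lhs => rw [hs, Finset.sum_smul, map_sum]
  conv_rhs => rw [hs, map_sum, Finset.sum_smul]
  refine Finset.sum_congr rfl fun i _ => ?_
  have hm : P 𝒜 i c • x ∈ ℳ (i + e) := SetLike.GradedSMul.smul_mem (P_mem 𝒜 i c) hx
  rw [P_of_mem ℳ hm, P_of_mem 𝒜 (P_mem 𝒜 i c)]
  by_cases h : i + e = j
  · rw [if_pos h, if_pos (by omega)]
  · rw [if_neg h, if_neg (by omega), zero_smul]

end Comp

/-- A graded module, presented by its component maps. -/
structure IsProj {N : Type u} [AddCommGroup N] [Module R N] (Q : ℤ → N →+ N) : Prop where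
  smul : ∀ (c : R) (e : ℤ) (x : N), Q e x = x → ∀ j, Q j (c • x) = P 𝒜 (j - e) c • x
  exists_sum : ∀ x : N, ∃ s : Finset ℤ, x = ∑ j ∈ s, Q j x
  comp : ∀ i j x, Q i (Q j x) = if j = i then Q j x else 0

/-- the components of a graded module -/
theorem isProj_P {M : Type u} [AddCommGroup M] [Module R M] {τ : Type u} [SetLike τ M] [AddSubgroupClass τ M]
    (ℳ : ℤ → τ) [DirectSum.Decomposition ℳ] [SetLike.GradedSMul 𝒜 ℳ] : IsProj 𝒜 (P ℳ) where
  smul c e x hx j := P_smul 𝒜 ℳ ((P_eq_self_iff ℳ).mp hx) c j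
  exists_sum := exists_sum_P ℳ
  comp i j x := P_of_mem ℳ (P_mem ℳ j x) i

variable {n : ℕ} (deg : Fin n → ℤ)

/-- component of a vector of `R^n`, the `a`-th basis vector having degree `deg a` -/
def vcmp (j : ℤ) : (Fin n → R) →+ (Fin n → R) :=
  AddMonoidHom.mk' (fun v a => P 𝒜 (j - deg a) (v a)) fun v w => funext fun a => by simp

theorem vcmp_apply (j : ℤ) (v : Fin n → R) (a : Fin n) : vcmp 𝒜 deg j v a = P 𝒜 (j - deg a) (v a) := rfl

theorem vcmp_eq_self_iff {j : ℤ} {v : Fin n → R} :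
    vcmp 𝒜 deg j v = v ↔ ∀ a, v a ∈ 𝒜 (j - deg a) := by
  rw [funext_iff]
  exact forall_congr' fun a => P_eq_self_iff 𝒜

theorem vcmp_eq_self_of_mem {j : ℤ} {v : Fin n → R} (h : ∀ a, v a ∈ 𝒜 (j - deg a)) :
    vcmp 𝒜 deg j v = v := (vcmp_eq_self_iff 𝒜 deg).mpr h

theorem isProj_vcmp : IsProj 𝒜 (vcmp 𝒜 deg) where
  smul c e x hx j := funext fun a => by
    have hxa := (vcmp_eq_self_iff 𝒜 deg).mp hx a
    rw [vcmp_apply, Pi.smul_apply, Pi.smul_apply, P_smul 𝒜 𝒜 hxa, show j - deg a - (e - deg a) = j - e by ring]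
  exists_sum v := by
    classical
    choose s hs using fun a => exists_sum_P 𝒜 (v a)
    refine ⟨Finset.univ.biUnion fun a => (s a).image fun i => i + deg a, funext fun a => ?_⟩
    rw [Finset.sum_apply]
    simp only [vcmp_apply]
    have key : ∀ i, i ∉ s a → P 𝒜 i (v a) = 0 := fun i hi => by
      conv_lhs => rw [hs a, map_sum]
      exact Finset.sum_eq_zero fun l hl => by
        rw [P_of_mem 𝒜 (P_mem 𝒜 l _), if_neg (fun h : l = i => hi (h ▸ hl))]
    conv_lhs => rw [hs a]
    rw [← Finset.sum_subset (s₁ := (s a).image fun i => i + deg a)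
      (fun i hi => Finset.mem_biUnion.mpr ⟨a, Finset.mem_univ _, hi⟩)]
    · rw [Finset.sum_image fun i _ l _ h => add_right_cancel h]
      exact Finset.sum_congr rfl fun i _ => by rw [add_sub_cancel_right]
    · intro i _ hi
      refine key _ fun h => hi (Finset.mem_image.mpr ⟨_, h, sub_add_cancel _ _⟩)
  comp i j v := funext fun a => by
    rw [vcmp_apply, vcmp_apply, P_of_mem 𝒜 (P_mem 𝒜 _ _)]
    by_cases h : j = i
    · rw [if_pos (by omega), if_pos h, vcmp_apply]
    · rw [if_neg (by omega), if_neg h, Pi.zero_apply]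

theorem vcmp_single (j : ℤ) (b : Fin n) :
    vcmp 𝒜 deg j (Pi.single b 1) = if deg b = j then Pi.single b 1 else 0 := by
  funext a
  rw [vcmp_apply]
  rcases eq_or_ne a b with rfl | h
  · rw [Pi.single_eq_same, P_of_mem 𝒜 SetLike.GradedOne.one_mem]
    by_cases hj : deg a = j
    · rw [if_pos (by omega), if_pos hj, Pi.single_eq_same]
    · rw [if_neg (by omega), if_neg hj, Pi.zero_apply]
  · rw [Pi.single_eq_of_ne h, map_zero]
    split_ifs <;> simp [h]

variable {𝒜}

/-- taking components commutes with a homogeneous linear combination -/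
theorem comp_linearCombination {N : Type u} [AddCommGroup N] [Module R N] {Q : ℤ → N →+ N} (hQ : IsProj 𝒜 Q)
    (x : Fin n → N) (hx : ∀ a, Q (deg a) (x a) = x a) (j : ℤ) (v : Fin n → R) :
    Q j (Fintype.linearCombination R x v) = Fintype.linearCombination R x (vcmp 𝒜 deg j v) := by
  rw [Fintype.linearCombination_apply, Fintype.linearCombination_apply, map_sum]
  exact Finset.sum_congr rfl fun a _ => hQ.smul _ _ _ (hx a) j

omit [SetLike σ' R] [AddSubgroupClass σ' R] in
theorem mulVecLin_eq_linearCombination {m : ℕ} (A : Matrix (Fin m) (Fin n) R) :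
    A.mulVecLin = Fintype.linearCombination R (fun b a => A a b) := by
  ext v a
  simp [Matrix.mulVecLin_apply, Matrix.mulVec, dotProduct, Fintype.linearCombination_apply, mul_comm]

/-- taking components commutes with a homogeneous matrix -/
theorem comp_mulVecLin {m : ℕ} (degm : Fin m → ℤ) (A : Matrix (Fin m) (Fin n) R)
    (hA : ∀ a b, A a b ∈ 𝒜 (deg b - degm a)) (j : ℤ) (v : Fin n → R) :
    vcmp 𝒜 degm j (A.mulVecLin v) = A.mulVecLin (vcmp 𝒜 deg j v) := by
  rw [mulVecLin_eq_linearCombination]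
  exact comp_linearCombination deg (isProj_vcmp 𝒜 degm) _
    (fun b => vcmp_eq_self_of_mem 𝒜 degm fun a => hA a b) j v

end Groth.Agent.H3CAlg.Syz
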