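import Groth.Agent.H3CAlg.Syz.Length

/-!
# Minimal resolutions are dominated by every resolution
-/

namespace Groth.Agent.H3CAlg.Syz

universe u v

open MvPolynomial GrSyz

variable {R : Type u} [CommRing R] {σ' : Type u} [SetLike σ' R] [AddSubgroupClass σ' R] {𝒜 : ℤ → σ'}
  [GradedRing 𝒜]

/-- a homogeneous linear map between free modules with degrees -/
def IsHom (𝒜 : ℤ → σ') [GradedRing 𝒜] {n m : ℕ} (dn : Fin n → ℤ) (dm : Fin m → ℤ)
    (φ : (Fin n → R) →ₗ[R] (Fin m → R)) : Prop :=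
  ∀ j v, vcmp 𝒜 dm j (φ v) = φ (vcmp 𝒜 dn j v)

/-- homogeneous lifts exist -/
theorem exists_lift {n m : ℕ} (dn : Fin n → ℤ) (dm : Fin m → ℤ) {N : Type u} [AddCommGroup N] [Module R N]
    {Q : ℤ → N →+ N} (hQ : IsProj 𝒜 Q) (x : Fin m → N) (hx : ∀ a, Q (dm a) (x a) = x a)
    (y : Fin n → N) (hy : ∀ b, Q (dn b) (y b) = y b)
    (hmem : ∀ b, y b ∈ LinearMap.range (Fintype.linearCombination R x)) :
    ∃ φ : (Fin n → R) →ₗ[R] (Fin m → R), IsHom 𝒜 dn dm φ ∧
      ∀ v, Fintype.linearCombination R x (φ v) = Fintype.linearCombination R y v := by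
  choose w hw using hmem
  let c := fun b => vcmp 𝒜 dm (dn b) (w b)
  refine ⟨Fintype.linearCombination R c, fun j v => comp_linearCombination dn (isProj_vcmp 𝒜 dm) c
    (fun b => by rw [(isProj_vcmp 𝒜 dm).comp, if_pos rfl]) j v, fun v => ?_⟩
  rw [Fintype.linearCombination_apply R c v, map_sum, Fintype.linearCombination_apply R y v]
  refine Finset.sum_congr rfl fun b _ => ?_
  rw [map_smul, ← comp_linearCombination dm hQ x hx, hw, hy]

variable {M : Type u} [AddCommGroup M] [Module R M] {τ : Type u} [SetLike τ M] [AddSubgroupClass τ M]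
  {ℳ : ℤ → τ} [DirectSum.Decomposition ℳ] [SetLike.GradedSMul 𝒜 ℳ]

theorem dLin_homog (G : FreeRes 𝒜 ℳ) (i : ℕ) : IsHom 𝒜 (G.deg (i + 1)) (G.deg i) (G.dLin i) :=
  comp_mulVecLin (G.deg (i + 1)) (G.deg i) (G.d i) (G.d_mem i)

/-- comparison of resolutions -/
theorem exists_chainMap (F G : FreeRes 𝒜 ℳ) :
    ∃ φ : ∀ i, (Fin (F.rk i) → R) →ₗ[R] (Fin (G.rk i) → R), (∀ i, IsHom 𝒜 (F.deg i) (G.deg i) (φ i)) ∧
      (∀ v, G.augLin (φ 0 v) = F.augLin v) ∧ ∀ i v, G.dLin i (φ (i + 1) v) = φ i (F.dLin i v) := by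
  let T := fun i => {f : (Fin (F.rk i) → R) →ₗ[R] (Fin (G.rk i) → R) //
    IsHom 𝒜 (F.deg i) (G.deg i) f ∧ ∀ w, f (F.dLin i w) ∈ LinearMap.range (G.dLin i)}
  have h0 : ∃ f : T 0, ∀ v, G.augLin (f.1 v) = F.augLin v := by
    obtain ⟨f, hf, hc⟩ := exists_lift (F.deg 0) (G.deg 0) (isProj_P 𝒜 ℳ) G.aug
      (fun a => (P_eq_self_iff ℳ).mpr (G.aug_mem a)) F.aug (fun b => (P_eq_self_iff ℳ).mpr (F.aug_mem b))
      fun b => G.aug_surjective _
    refine ⟨⟨f, hf, fun w => G.exact_zero.le (LinearMap.mem_ker.mpr ?_)⟩, hc⟩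
    exact (hc _).trans (LinearMap.mem_ker.mp (F.exact_zero.ge (LinearMap.mem_range_self _ w)))
  have hstep : ∀ i (f : T i), ∃ g : T (i + 1), ∀ v, G.dLin i (g.1 v) = f.1 (F.dLin i v) := by
    intro i f
    have hG : G.dLin i = Fintype.linearCombination R (fun b a => G.d i a b) := mulVecLin_eq_linearCombination _
    obtain ⟨g, hg, hc⟩ := exists_lift (F.deg (i + 1)) (G.deg (i + 1)) (isProj_vcmp 𝒜 (G.deg i))
      (fun b a => G.d i a b) (fun b => vcmp_eq_self_of_mem 𝒜 _ fun a => G.d_mem i a b)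
      (fun b => f.1 (F.dLin i (Pi.single b 1)))
      (fun b => by rw [f.2.1, dLin_homog F i, vcmp_single, if_pos rfl])
      (fun b => hG ▸ f.2.2 _)
    have hc' : G.dLin i ∘ₗ g = f.1 ∘ₗ F.dLin i := by
      refine LinearMap.pi_ext' fun b => LinearMap.ext_ring ?_
      simp only [LinearMap.comp_apply, LinearMap.coe_single]
      exact (LinearMap.congr_fun hG _).trans ((hc _).trans (by
        rw [Fintype.linearCombination_apply_single, one_smul]))
    refine ⟨⟨g, hg, fun w => (G.exact_succ i).le (LinearMap.mem_ker.mpr ?_)⟩,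
      fun v => LinearMap.congr_fun hc' v⟩
    refine (LinearMap.congr_fun hc' _).trans ?_
    show f.1 (F.dLin i (F.dLin (i + 1) w)) = 0
    rw [show F.dLin i (F.dLin (i + 1) w) = 0 from
      LinearMap.mem_ker.mp ((F.exact_succ i).ge (LinearMap.mem_range_self _ w)), map_zero]
  choose g hg using hstep
  obtain ⟨f₀, hf₀⟩ := h0
  let φ : ∀ i, T i := fun i => Nat.rec (motive := T) f₀ (fun i f => g i f) i
  exact ⟨fun i => (φ i).1, fun i => (φ i).2.1, hf₀, fun i v => hg i (φ i) v⟩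

section Std

variable {k : Type u} [Field k] {σ : Type}
  {M : Type u} [AddCommGroup M] [Module k M] [Module (MvPolynomial σ k) M]
  {ℳ : ℤ → Submodule k M} [DirectSum.Decomposition ℳ] [SetLike.GradedSMul (stdGr k σ) ℳ]

theorem constantCoeff_lin {n m : ℕ} (φ : (Fin n → MvPolynomial σ k) →ₗ[MvPolynomial σ k] (Fin m → MvPolynomial σ k))
    (v : Fin n → MvPolynomial σ k) (a : Fin m) :
    constantCoeff (φ v a) = ∑ b, constantCoeff (v b) * constantCoeff (φ (Pi.single b 1) a) := by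
  classical
  conv_lhs => rw [pi_eq_sum_univ' v]
  simp [map_sum, Finset.sum_apply]

/-- a chain endomorphism of a minimal resolution lifting zero vanishes on constant coefficients -/
theorem lift_zero_mem [Finite σ] [IsScalarTower k (MvPolynomial σ k) M] (F : FreeRes (stdGr k σ) ℳ)
    (hF : F.IsMinimal (irrel (stdGr k σ)).toIdeal)
    (θ : ∀ i, (Fin (F.rk i) → MvPolynomial σ k) →ₗ[MvPolynomial σ k] (Fin (F.rk i) → MvPolynomial σ k))
    (h0 : ∀ v, F.augLin (θ 0 v) = 0) (hd : ∀ i v, F.dLin i (θ (i + 1) v) = θ i (F.dLin i v)) :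
    ∀ i v a, constantCoeff (θ i v a) = 0 := by
  suffices key : ∀ i, ∃ h : (Fin (F.rk i) → MvPolynomial σ k) →ₗ[MvPolynomial σ k] (Fin (F.rk (i + 1)) → MvPolynomial σ k),
      (∀ v, θ i (F.dLin i v) = F.dLin i (h (F.dLin i v))) ∧ ∀ v a, constantCoeff (θ i v a) = 0 from
    fun i => (key i).choose_spec.2
  have hsplit : ∀ {n m : ℕ} (p : (Fin n → MvPolynomial σ k) →ₗ[MvPolynomial σ k] (Fin m → MvPolynomial σ k))
      {l : ℕ} (f : (Fin l → MvPolynomial σ k) →ₗ[MvPolynomial σ k] (Fin m → MvPolynomial σ k)),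
      (∀ v, f v ∈ LinearMap.range p) → ∃ h, p ∘ₗ h = f := fun p l f hf => by
    obtain ⟨h, hh⟩ := Module.projective_lifting_property p.rangeRestrict (f.codRestrict _ hf) p.surjective_rangeRestrict
    exact ⟨h, LinearMap.ext fun v => congrArg Subtype.val (LinearMap.congr_fun hh v)⟩
  intro i
  induction i with
  | zero =>
    have hr : ∀ v, θ 0 v ∈ LinearMap.range (F.dLin 0) := fun v => F.exact_zero.le (LinearMap.mem_ker.mpr (h0 v))
    obtain ⟨h, hh⟩ := hsplit (F.dLin 0) (θ 0) hr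
    exact ⟨h, fun v => (LinearMap.congr_fun hh _).symm, fun v a => range_d_mem F hF 0 (hr v) a⟩
  | succ i ih =>
    obtain ⟨h, hh, -⟩ := ih
    have hr : ∀ v, (θ (i + 1) - h ∘ₗ F.dLin i) v ∈ LinearMap.range (F.dLin (i + 1)) := fun v =>
      (F.exact_succ i).le (LinearMap.mem_ker.mpr (by
        show F.dLin i (θ (i + 1) v - h (F.dLin i v)) = 0
        rw [map_sub, hd, hh, sub_self]))
    obtain ⟨h', hh'⟩ := hsplit (F.dLin (i + 1)) _ hr
    have hval : ∀ v, θ (i + 1) v = h (F.dLin i v) + F.dLin (i + 1) (h' v) := fun v => by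
      have := LinearMap.congr_fun hh' v
      simp only [LinearMap.comp_apply, LinearMap.sub_apply] at this
      rw [this]
      abel
    refine ⟨h', fun v => ?_, fun v a => ?_⟩
    · rw [hval, show F.dLin i (F.dLin (i + 1) v) = 0 from
        LinearMap.mem_ker.mp ((F.exact_succ i).ge (LinearMap.mem_range_self _ v)), map_zero, zero_add]
    · rw [hval, Pi.add_apply, map_add, range_d_mem F hF (i + 1) (LinearMap.mem_range_self _ _) a, add_zero,
        constantCoeff_lin]
      exact Finset.sum_eq_zero fun b _ => by rw [range_d_mem F hF i (LinearMap.mem_range_self _ _) b, zero_mul]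

/-- every resolution has at least the Betti numbers of a minimal one -/
theorem betti_le [Finite σ] [IsScalarTower k (MvPolynomial σ k) M] (F G : FreeRes (stdGr k σ) ℳ)
    (hF : F.IsMinimal (irrel (stdGr k σ)).toIdeal) (i : ℕ) (j : ℤ) : F.betti i j ≤ G.betti i j := by
  classical
  obtain ⟨φ, hφ, hφ0, hφd⟩ := exists_chainMap F G
  obtain ⟨ψ, -, hψ0, hψd⟩ := exists_chainMap G F
  have hθ := lift_zero_mem F hF (fun l => ψ l ∘ₗ φ l - LinearMap.id)
    (fun v => by simp [hψ0, hφ0])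
    (fun l v => by
      show F.dLin l (ψ (l + 1) (φ (l + 1) v) - v) = ψ l (φ l (F.dLin l v)) - F.dLin l v
      rw [map_sub, hψd, hφd])
  let J := {b : Fin (F.rk i) // F.deg i b = j}
  let J' := {a : Fin (G.rk i) // G.deg i a = j}
  let A : Matrix J' J k := fun a b => constantCoeff (φ i (Pi.single b.1 1) a.1)
  let B : Matrix J J' k := fun b a => constantCoeff (ψ i (Pi.single a.1 1) b.1)
  have hzero : ∀ (b : J) (a : Fin (G.rk i)), G.deg i a ≠ j → constantCoeff (φ i (Pi.single b.1 1) a) = 0 := by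
    intro b a ha
    have h := congrFun (hφ i j (Pi.single b.1 1)) a
    rw [vcmp_single, if_pos b.2, vcmp_apply] at h
    rw [← h, ← mem_irrel_iff]
    exact mem_irrel_of_mem (sub_ne_zero.mpr fun h => ha h.symm) (P_mem _ _ _)
  have hBA : B * A = 1 := by
    ext b b'
    have h : constantCoeff (ψ i (φ i (Pi.single b'.1 1)) b.1) -
        constantCoeff ((Pi.single b'.1 1 : Fin (F.rk i) → MvPolynomial σ k) b.1) = 0 := by
      rw [← map_sub]
      exact hθ i (Pi.single b'.1 1) b.1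
    rw [constantCoeff_lin (ψ i), sub_eq_zero] at h
    rw [Matrix.mul_apply]
    simp only [A, B]
    rw [← Finset.sum_subtype (Finset.univ.filter fun a => G.deg i a = j) (by simp) (fun a =>
      constantCoeff (ψ i (Pi.single a 1) b.1) * constantCoeff (φ i (Pi.single b'.1 1) a))]
    rw [Finset.sum_filter_of_ne (fun a _ hne => by
      by_contra ha
      exact hne (by rw [hzero b' a ha, mul_zero]))]
    calc _ = ∑ a, constantCoeff (φ i (Pi.single b'.1 1) a) * constantCoeff (ψ i (Pi.single a 1) b.1) :=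
          Finset.sum_congr rfl fun a _ => mul_comm _ _
      _ = constantCoeff ((Pi.single b'.1 1 : Fin (F.rk i) → MvPolynomial σ k) b.1) := h
      _ = (1 : Matrix J J k) b b' := by
        rcases eq_or_ne b b' with rfl | hne
        · simp
        · rw [Pi.single_eq_of_ne (fun h' => hne (Subtype.ext h')), map_zero, Matrix.one_apply_ne hne]
  have h1 := Matrix.rank_mul_le_right B A
  rw [hBA, Matrix.rank_one] at h1
  have h2 := h1.trans (Matrix.rank_le_card_height A)
  simpa [FreeRes.betti, J, J', Fintype.card_subtype] using h2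

theorem betti_eq [Finite σ] [IsScalarTower k (MvPolynomial σ k) M] (F G : FreeRes (stdGr k σ) ℳ)
    (hF : F.IsMinimal (irrel (stdGr k σ)).toIdeal) (hG : G.IsMinimal (irrel (stdGr k σ)).toIdeal) (i : ℕ) (j : ℤ) :
    F.betti i j = G.betti i j :=
  le_antisymm (betti_le F G hF i j) (betti_le G F hG i j)

theorem isGenLE_of_isGenLE [Finite σ] [IsScalarTower k (MvPolynomial σ k) M] (F G : FreeRes (stdGr k σ) ℳ)
    (hF : F.IsMinimal (irrel (stdGr k σ)).toIdeal) {r : ℤ} (hG : G.IsGenLE r) : F.IsGenLE r := by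
  intro i b
  have h := betti_le F G hF i (F.deg i b)
  have hpos : 0 < F.betti i (F.deg i b) := Finset.card_pos.mpr ⟨b, by simp⟩
  obtain ⟨a, ha⟩ := Finset.card_pos.mp (lt_of_lt_of_le hpos h)
  exact (Finset.mem_filter.mp ha).2 ▸ hG i a

theorem isRegLE_iff [Finite σ] [IsScalarTower k (MvPolynomial σ k) M] (F : FreeRes (stdGr k σ) ℳ)
    (hF : F.IsMinimal (irrel (stdGr k σ)).toIdeal) (r : ℤ) :
    IsRegLE (stdGr k σ) ℳ (irrel (stdGr k σ)).toIdeal r ↔ F.IsGenLE r :=
  ⟨fun ⟨G, _, hG⟩ => isGenLE_of_isGenLE F G hF hG, fun h => ⟨F, hF, h⟩⟩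

theorem reg_eq [Finite σ] [IsScalarTower k (MvPolynomial σ k) M] (F : FreeRes (stdGr k σ) ℳ)
    (hF : F.IsMinimal (irrel (stdGr k σ)).toIdeal) (hfin : ∃ r, F.IsGenLE r) :
    reg (stdGr k σ) ℳ (irrel (stdGr k σ)).toIdeal =
      ⨆ i : ℕ, WithBot.map (fun t : ℤ => ((t - (i : ℤ) : ℤ) : WithTop ℤ)) (F.maxGenDeg i) := by
  classical
  have hterm : ∀ (i : ℕ) (b : Fin (F.rk i)), ((((F.deg i b - i : ℤ)) : WithTop ℤ) : WithBot (WithTop ℤ)) ≤
      WithBot.map (fun t : ℤ => ((t - (i : ℤ) : ℤ) : WithTop ℤ)) (F.maxGenDeg i) := by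
    intro i b
    have h : (F.deg i b : WithBot ℤ) ≤ F.maxGenDeg i :=
      Finset.le_sup (f := fun b => (F.deg i b : WithBot ℤ)) (Finset.mem_univ b)
    cases hm : F.maxGenDeg i with
    | bot => rw [hm] at h; simp at h
    | coe t =>
      rw [hm, WithBot.coe_le_coe] at h
      rw [WithBot.map_coe, WithBot.coe_le_coe, WithTop.coe_le_coe]
      omega
  set s : WithBot (WithTop ℤ) := ⨆ i : ℕ, WithBot.map (fun t : ℤ => ((t - (i : ℤ) : ℤ) : WithTop ℤ)) (F.maxGenDeg i)
  have hle : ∀ r : ℤ, s ≤ ((r : WithTop ℤ) : WithBot (WithTop ℤ)) ↔ F.IsGenLE r := by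
    intro r
    refine ⟨fun h i b => ?_, fun h => iSup_le fun i => ?_⟩
    · have := ((hterm i b).trans (le_iSup
        (fun i : ℕ => WithBot.map (fun t : ℤ => ((t - (i : ℤ) : ℤ) : WithTop ℤ)) (F.maxGenDeg i)) i)).trans h
      rw [WithBot.coe_le_coe, WithTop.coe_le_coe] at this
      omega
    · cases hm : F.maxGenDeg i with
      | bot => simp
      | coe t =>
        obtain ⟨b, -, hb⟩ := Finset.exists_mem_eq_sup (Finset.univ : Finset (Fin (F.rk i))) (by
          by_contra hne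
          rw [Finset.not_nonempty_iff_eq_empty] at hne
          simp [FreeRes.maxGenDeg, hne] at hm) fun b => (F.deg i b : WithBot ℤ)
        rw [WithBot.map_coe, WithBot.coe_le_coe, WithTop.coe_le_coe]
        have : (t : WithBot ℤ) = (F.deg i b : WithBot ℤ) := hm.symm.trans hb
        have := WithBot.coe_inj.mp this
        have := h i b
        omega
  refine le_antisymm ?_ (le_iInf₂ fun r hr => (hle r).mpr ((isRegLE_iff F hF r).mp hr))
  obtain ⟨r₀, hr₀⟩ := hfin
  cases hs : s with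
  | bot =>
    have hall : ∀ r : ℤ, F.IsGenLE r := fun r => (hle r).mp (hs ▸ bot_le)
    by_contra hne
    rw [le_bot_iff, ← ne_eq] at hne
    obtain ⟨x, hx⟩ := WithBot.ne_bot_iff_exists.mp hne
    cases x with
    | top =>
      have := iInf₂_le (f := fun (r : ℤ) (_ : IsRegLE (stdGr k σ) ℳ (irrel (stdGr k σ)).toIdeal r) =>
        ((r : WithTop ℤ) : WithBot (WithTop ℤ))) r₀ ((isRegLE_iff F hF r₀).mpr (hall r₀))
      rw [reg] at hx
      rw [← hx, WithBot.coe_le_coe] at this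
      simp at this
    | coe x =>
      have := iInf₂_le (f := fun (r : ℤ) (_ : IsRegLE (stdGr k σ) ℳ (irrel (stdGr k σ)).toIdeal r) =>
        ((r : WithTop ℤ) : WithBot (WithTop ℤ))) (x - 1) ((isRegLE_iff F hF _).mpr (hall _))
      rw [reg] at hx
      rw [← hx, WithBot.coe_le_coe, WithTop.coe_le_coe] at this
      omega
  | coe x =>
    cases x with
    | top =>
      have := (hle r₀).mpr hr₀
      rw [hs, WithBot.coe_le_coe] at this
      simp at this
    | coe x => exact iInf₂_le (f := fun (r : ℤ) (_ : IsRegLE (stdGr k σ) ℳ (irrel (stdGr k σ)).toIdeal r) =>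
        ((r : WithTop ℤ) : WithBot (WithTop ℤ))) x ((isRegLE_iff F hF x).mpr ((hle x).mp hs.le))

theorem exists_isGenLE [Finite σ] (F : FreeRes (stdGr k σ) ℳ) {n : ℕ} (h : F.HasLengthLE n) : ∃ r, F.IsGenLE r := by
  classical
  refine ⟨∑ i ∈ Finset.range (n + 1), ∑ b : Fin (F.rk i), |F.deg i b|, fun i b => ?_⟩
  have hi : i ≤ n := by
    by_contra hi
    exact (Fin.cast (h i (not_le.mp hi)) b).elim0
  have h1 : |F.deg i b| ≤ ∑ b : Fin (F.rk i), |F.deg i b| :=
    Finset.single_le_sum (f := fun b => |F.deg i b|) (fun _ _ => abs_nonneg _) (Finset.mem_univ b)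
  have h2 : ∑ b : Fin (F.rk i), |F.deg i b| ≤ ∑ i ∈ Finset.range (n + 1), ∑ b : Fin (F.rk i), |F.deg i b| :=
    Finset.single_le_sum (f := fun i => ∑ b : Fin (F.rk i), |F.deg i b|)
      (fun _ _ => Finset.sum_nonneg fun _ _ => abs_nonneg _) (Finset.mem_range.mpr (by omega))
  have := le_abs_self (F.deg i b)
  omega

end Std

end Groth.Agent.H3CAlg.Syz
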