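import Groth.Agent.H3CAlg.Syz.Basic

/-!
# Minimal homogeneous generators and existence of minimal graded free resolutions
-/

namespace Groth.Agent.H3CAlg.Syz

universe u v

open DirectSum GrSyz

variable {R : Type u} [CommRing R] {σ' : Type u} [SetLike σ' R] [AddSubgroupClass σ' R] {𝒜 : ℤ → σ'} [GradedRing 𝒜]

section Gens

variable {N : Type u} [AddCommGroup N] [Module R N] {Q : ℤ → N →+ N}

/-- A finitely generated stable submodule has a minimal homogeneous generating family: relations between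
the generators have coefficients with vanishing degree zero component. -/
theorem exists_min_gens (hQ : IsProj 𝒜 Q) (h0 : ∀ a ∈ 𝒜 0, a = 0 ∨ IsUnit a) (K : Submodule R N) (hK : K.FG)
    (hKQ : ∀ x ∈ K, ∀ j, Q j x ∈ K) :
    ∃ (t : ℕ) (x : Fin t → N) (e : Fin t → ℤ), (∀ l, Q (e l) (x l) = x l) ∧
      Submodule.span R (Set.range x) = K ∧
      ∀ c : Fin t → R, ∑ l, c l • x l = 0 → ∀ l, P 𝒜 0 (c l) = 0 := by
  classical
  have hex : ∃ (t : ℕ) (x : Fin t → N) (e : Fin t → ℤ),
      (∀ l, Q (e l) (x l) = x l) ∧ Submodule.span R (Set.range x) = K := by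
    obtain ⟨m, g, hg⟩ := Submodule.fg_iff_exists_fin_generating_family.mp hK
    choose s hs using fun l => hQ.exists_sum (g l)
    let T := (Finset.univ : Finset (Fin m)).biUnion fun l => (s l).image fun j => ((l, j) : Fin m × ℤ)
    refine ⟨T.card, fun p => Q (T.equivFin.symm p).1.2 (g (T.equivFin.symm p).1.1),
      fun p => (T.equivFin.symm p).1.2, fun p => by rw [hQ.comp, if_pos rfl], le_antisymm ?_ ?_⟩
    · rw [Submodule.span_le]
      rintro _ ⟨p, rfl⟩
      exact hKQ _ (hg ▸ Submodule.subset_span ⟨_, rfl⟩) _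
    · conv_lhs => rw [← hg]
      rw [Submodule.span_le]
      rintro _ ⟨l, rfl⟩
      rw [SetLike.mem_coe, hs l]
      refine Submodule.sum_mem _ fun j hj => Submodule.subset_span ⟨T.equivFin ⟨(l, j), ?_⟩, by simp⟩
      exact Finset.mem_biUnion.mpr ⟨l, Finset.mem_univ _, Finset.mem_image.mpr ⟨j, hj, rfl⟩⟩
  obtain ⟨x, e, hx, hspan⟩ := Nat.find_spec hex
  refine ⟨Nat.find hex, x, e, hx, hspan, fun c hc i => ?_⟩
  by_contra hu
  generalize ht : Nat.find hex = t at x e hx hspan c hc i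
  obtain ⟨t', rfl⟩ : ∃ t', t = t' + 1 := ⟨t - 1, by have := i.pos; omega⟩
  refine Nat.find_min hex (show t' < Nat.find hex by omega)
    ⟨x ∘ i.succAbove, e ∘ i.succAbove, fun l => hx _, le_antisymm ?_ ?_⟩
  · exact (Submodule.span_mono (Set.range_comp_subset_range _ _)).trans hspan.le
  · conv_lhs => rw [← hspan]
    rw [Submodule.span_le]
    rintro _ ⟨l, rfl⟩
    rcases eq_or_ne l i with rfl | hl
    swap
    · obtain ⟨l', rfl⟩ := Fin.exists_succAbove_eq hl
      exact Submodule.subset_span ⟨l', rfl⟩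
    have hU : IsUnit (P 𝒜 0 (c l)) := (h0 _ (P_mem 𝒜 0 (c l))).resolve_left hu
    have h := congrArg (Q (e l)) hc
    rw [map_sum, map_zero, Fin.sum_univ_succAbove _ l, hQ.smul _ _ _ (hx l), sub_self,
      add_eq_zero_iff_eq_neg] at h
    rw [SetLike.mem_coe, ← Submodule.smul_mem_iff_of_isUnit _ hU, h]
    refine neg_mem (Submodule.sum_mem _ fun l' _ => ?_)
    rw [hQ.smul _ _ _ (hx _)]
    exact Submodule.smul_mem _ _ (Submodule.subset_span ⟨l', rfl⟩)

variable (Q)

/-- a chosen family of generators with degrees -/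
structure GenData (K : Submodule R N) : Type u where
  t : ℕ
  x : Fin t → N
  e : Fin t → ℤ
  homog : ∀ l, Q (e l) (x l) = x l
  span_eq : Submodule.span R (Set.range x) = K
  rel : ∀ c : Fin t → R, ∑ l, c l • x l = 0 → ∀ l, P 𝒜 0 (c l) = 0

end Gens

variable [IsNoetherianRing R]

variable {M : Type u} [AddCommGroup M] [Module R M] [Module.Finite R M] {τ : Type u} [SetLike τ M]
  [AddSubgroupClass τ M] {ℳ : ℤ → τ} [DirectSum.Decomposition ℳ] [SetLike.GradedSMul 𝒜 ℳ]

/-- one step of the resolution: a free module with degrees and a stable submodule -/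
structure State (𝒜 : ℤ → σ') [GradedRing 𝒜] : Type u where
  n : ℕ
  deg : Fin n → ℤ
  K : Submodule R (Fin n → R)
  stable : ∀ v ∈ K, ∀ j, vcmp 𝒜 deg j v ∈ K

/-- every finite graded module has a minimal resolution -/
theorem exists_resolution (h0 : ∀ a ∈ 𝒜 0, a = 0 ∨ IsUnit a) :
    ∃ F : FreeRes 𝒜 ℳ, (∀ b (v : Fin (F.rk 0) → R), F.augLin v = 0 → P 𝒜 0 (v b) = 0) ∧
      ∀ i a b, P 𝒜 0 (F.d i a b) = 0 := by
  classical
  have hg0 : ∃ (t : ℕ) (x : Fin t → M) (e : Fin t → ℤ), (∀ l, P ℳ (e l) (x l) = x l) ∧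
      Submodule.span R (Set.range x) = ⊤ ∧
      ∀ c : Fin t → R, ∑ l, c l • x l = 0 → ∀ l, P 𝒜 0 (c l) = 0 :=
    exists_min_gens (isProj_P 𝒜 ℳ) h0 ⊤ Module.Finite.fg_top fun _ _ _ => trivial
  obtain ⟨t₀, x₀, e₀, hx₀, hs₀, hr₀⟩ := hg0
  let S₀ : State 𝒜 := ⟨t₀, e₀, LinearMap.ker (Fintype.linearCombination R x₀), fun v hv j => by
    rw [LinearMap.mem_ker] at hv ⊢
    rw [← comp_linearCombination e₀ (isProj_P 𝒜 ℳ) x₀ hx₀ j v, hv, map_zero]⟩
  have hstep : ∀ S : State 𝒜, Nonempty (GenData (𝒜 := 𝒜) (vcmp 𝒜 S.deg) S.K) := fun S => by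
    obtain ⟨t, x, e, h1, h2, h3⟩ := exists_min_gens (isProj_vcmp 𝒜 S.deg) h0 S.K (IsNoetherian.noetherian _) S.stable
    exact ⟨⟨t, x, e, h1, h2, h3⟩⟩
  let G := fun S => Classical.choice (hstep S)
  let next : State 𝒜 → State 𝒜 := fun S =>
    ⟨(G S).t, (G S).e, LinearMap.ker (Fintype.linearCombination R (G S).x), fun v hv j => by
      rw [LinearMap.mem_ker] at hv ⊢
      rw [← comp_linearCombination (G S).e (isProj_vcmp 𝒜 S.deg) (G S).x (G S).homog j v, hv, map_zero]⟩
  let st : ℕ → State 𝒜 := fun i => Nat.rec (motive := fun _ => State 𝒜) S₀ (fun _ S => next S) i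
  let rk : ℕ → ℕ := fun i => (st i).n
  let d : (i : ℕ) → Matrix (Fin (rk i)) (Fin (rk (i + 1))) R := fun i a b => (G (st i)).x b a
  have hd : ∀ i, Matrix.mulVecLin (d i) = Fintype.linearCombination R (G (st i)).x := fun i =>
    mulVecLin_eq_linearCombination (d i)
  have hrange : ∀ i, LinearMap.range (Matrix.mulVecLin (d i)) = (st i).K := fun i => by
    rw [hd, Fintype.range_linearCombination, (G (st i)).span_eq]
  refine ⟨{ rk := rk, deg := fun i => (st i).deg, d := d, aug := x₀,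
            d_mem := fun i a b => (vcmp_eq_self_iff 𝒜 (st i).deg).mp ((G (st i)).homog b) a,
            aug_mem := fun b => (P_eq_self_iff ℳ).mp (hx₀ b),
            aug_surjective := LinearMap.range_eq_top.mp (by rw [Fintype.range_linearCombination, hs₀]),
            exact_zero := (hrange 0).symm,
            exact_succ := fun i => by rw [hrange (i + 1), hd i] },
    fun b v hv => hr₀ v ((Fintype.linearCombination_apply R x₀ v).symm.trans hv) b, ?_⟩
  intro i a b
  have hmem : (G (st i)).x b ∈ (st i).K := by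
    exact (G (st i)).span_eq.le (Submodule.subset_span ⟨b, rfl⟩)
  cases i with
  | zero =>
    refine hr₀ ((G (st 0)).x b) ?_ a
    exact (Fintype.linearCombination_apply R x₀ ((G (st 0)).x b)).symm.trans hmem
  | succ j =>
    refine (G (st j)).rel ((G (st (j + 1))).x b) ?_ a
    exact (Fintype.linearCombination_apply R (G (st j)).x ((G (st (j + 1))).x b)).symm.trans hmem

end Groth.Agent.H3CAlg.Syz
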