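import Groth.Agent.H3CAlg.Syz.Length

/-!
# Hilbert functions from graded free resolutions
-/

namespace Groth.Agent.H3CAlg.Syz

universe u v

open MvPolynomial GrSyz

variable {k : Type u} [Field k] {r : ℕ} {M : Type u} [AddCommGroup M] [Module k M]
  [Module (MvPolynomial (Fin (r + 1)) k) M] [IsScalarTower k (MvPolynomial (Fin (r + 1)) k) M]
  {ℳ : ℤ → Submodule k M} [DirectSum.Decomposition ℳ] [SetLike.GradedSMul (stdGr k (Fin (r + 1))) ℳ]
  (F : FreeRes (stdGr k (Fin (r + 1))) ℳ)

/-- the degree `d` piece of the `i`-th term -/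
noncomputable def piece (i : ℕ) (d : ℤ) : Submodule k (Fin (F.rk i) → MvPolynomial (Fin (r + 1)) k) :=
  Submodule.pi Set.univ fun b => stdGr k (Fin (r + 1)) (d - F.deg i b)

theorem mem_piece_iff {i : ℕ} {d : ℤ} {v : Fin (F.rk i) → MvPolynomial (Fin (r + 1)) k} :
    v ∈ piece F i d ↔ vcmp (stdGr k (Fin (r + 1))) (F.deg i) d v = v := by
  rw [vcmp_eq_self_iff]
  simp [piece]

theorem vcmp_mem_piece (i : ℕ) (d : ℤ) (v : Fin (F.rk i) → MvPolynomial (Fin (r + 1)) k) :
    vcmp (stdGr k (Fin (r + 1))) (F.deg i) d v ∈ piece F i d := by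
  rw [mem_piece_iff, (isProj_vcmp _ _).comp, if_pos rfl]

/-- the piece as a product -/
noncomputable def pieceEquiv (i : ℕ) (d : ℤ) :
    piece F i d ≃ₗ[k] ((b : Fin (F.rk i)) → stdGr k (Fin (r + 1)) (d - F.deg i b)) where
  toFun v b := ⟨v.1 b, v.2 b trivial⟩
  invFun w := ⟨fun b => (w b).1, fun b _ => (w b).2⟩
  map_add' _ _ := rfl
  map_smul' _ _ := rfl
  left_inv _ := rfl
  right_inv _ := rfl

theorem finite_piece (i : ℕ) (d : ℤ) : Module.Finite k (piece F i d) := by
  haveI : ∀ b, Module.Finite k (stdGr k (Fin (r + 1)) (d - F.deg i b)) := fun b => finite_stdGr r _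
  exact Module.Finite.equiv (pieceEquiv F i d).symm

theorem finrank_piece (i : ℕ) (d : ℤ) : (Module.finrank k (piece F i d) : ℤ) =
    ∑ b : Fin (F.rk i), (if F.deg i b ≤ d then ((Nat.choose (r + (d - F.deg i b).toNat) r : ℕ) : ℤ) else 0) := by
  haveI : ∀ b, Module.Finite k (stdGr k (Fin (r + 1)) (d - F.deg i b)) := fun b => finite_stdGr r _
  rw [(pieceEquiv F i d).finrank_eq, Module.finrank_pi_fintype, Nat.cast_sum]
  refine Finset.sum_congr rfl fun b _ => ?_
  rw [finrank_stdGr]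
  by_cases h : F.deg i b ≤ d
  · rw [if_pos (by omega), if_pos h]
  · rw [if_neg (by omega), if_neg h, Nat.cast_zero]

/-- the differential on a piece -/
noncomputable def dPiece (i : ℕ) (d : ℤ) :
    piece F (i + 1) d →ₗ[k] (Fin (F.rk i) → MvPolynomial (Fin (r + 1)) k) :=
  ((F.dLin i).restrictScalars k).comp (piece F (i + 1) d).subtype

theorem mem_range_dPiece_iff {i : ℕ} {d : ℤ} {v : Fin (F.rk i) → MvPolynomial (Fin (r + 1)) k} :
    v ∈ LinearMap.range (dPiece F i d) ↔ v ∈ LinearMap.range (F.dLin i) ∧ v ∈ piece F i d := by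
  constructor
  · rintro ⟨w, rfl⟩
    refine ⟨LinearMap.mem_range_self _ w.1, (mem_piece_iff F).mpr ?_⟩
    show vcmp _ _ d (F.dLin i w.1) = F.dLin i w.1
    rw [comp_mulVecLin (F.deg (i + 1)) (F.deg i) (F.d i) (F.d_mem i), (mem_piece_iff F).mp w.2]
  · rintro ⟨⟨w, rfl⟩, h⟩
    refine ⟨⟨vcmp _ _ d w, vcmp_mem_piece F (i + 1) d w⟩, ?_⟩
    show F.dLin i (vcmp _ _ d w) = F.dLin i w
    rw [← comp_mulVecLin (F.deg (i + 1)) (F.deg i) (F.d i) (F.d_mem i)]
    exact (mem_piece_iff F).mp h

theorem finrank_succ_piece (i : ℕ) (d : ℤ) :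
    Module.finrank k (LinearMap.range (dPiece F i d)) + Module.finrank k (LinearMap.range (dPiece F (i + 1) d)) =
      Module.finrank k (piece F (i + 1) d) := by
  haveI := finite_piece F (i + 1) d
  rw [← LinearMap.finrank_range_add_finrank_ker (dPiece F i d)]
  congr 1
  have e : Submodule.map (piece F (i + 1) d).subtype (LinearMap.ker (dPiece F i d)) =
      LinearMap.range (dPiece F (i + 1) d) := by
    ext v
    rw [mem_range_dPiece_iff]
    constructor
    · rintro ⟨w, hw, rfl⟩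
      exact ⟨(F.exact_succ i).le (LinearMap.mem_ker.mpr hw), w.2⟩
    · rintro ⟨h1, h2⟩
      exact ⟨⟨v, h2⟩, LinearMap.mem_ker.mp ((F.exact_succ i).ge h1), rfl⟩
  rw [← e]
  exact (Submodule.equivMapOfInjective _ (piece F (i + 1) d).injective_subtype (LinearMap.ker (dPiece F i d))).symm.finrank_eq

theorem range_eq_bot_dPiece {m : ℕ} (hF : F.HasLengthLE m) (d : ℤ) :
    (Module.finrank k (LinearMap.range (dPiece F m d)) : ℤ) = 0 := by
  have h : LinearMap.range (dPiece F m d) = ⊥ := by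
    rw [eq_bot_iff]
    intro v hv
    have h' := ((mem_range_dPiece_iff F).mp hv).1
    rw [range_eq_bot_of_hasLengthLE F hF] at h'
    exact h'
  rw [h, finrank_bot, Nat.cast_zero]

/-- the Hilbert function as an alternating sum -/
theorem finrank_eq_sum {m : ℕ} (hF : F.HasLengthLE m) (d : ℤ) :
    (Module.finrank k (ℳ d) : ℤ) =
      ∑ i ∈ Finset.range (m + 1), (-1 : ℤ) ^ i * (Module.finrank k (piece F i d) : ℤ) := by
  haveI := finite_piece F 0 d
  let g : piece F 0 d →ₗ[k] M := (F.augLin.restrictScalars k).comp (piece F 0 d).subtype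
  have haug : ∀ v, F.augLin (vcmp (stdGr k (Fin (r + 1))) (F.deg 0) d v) = P ℳ d (F.augLin v) := fun v =>
    (comp_linearCombination (F.deg 0) (isProj_P _ ℳ) F.aug (fun b => (P_eq_self_iff ℳ).mpr (F.aug_mem b)) d v).symm
  have hg : LinearMap.range g = ℳ d := by
    ext m
    constructor
    · rintro ⟨w, rfl⟩
      show F.augLin w.1 ∈ ℳ d
      rw [← (mem_piece_iff F).mp w.2, haug]
      exact P_mem ℳ d _
    · intro hm
      obtain ⟨w, rfl⟩ := F.aug_surjective m
      exact ⟨⟨_, vcmp_mem_piece F 0 d w⟩, (haug w).trans ((P_eq_self_iff ℳ).mpr hm)⟩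
  have h0 : Module.finrank k (ℳ d) + Module.finrank k (LinearMap.range (dPiece F 0 d)) =
      Module.finrank k (piece F 0 d) := by
    rw [← LinearMap.finrank_range_add_finrank_ker g, hg]
    congr 1
    have e : Submodule.map (piece F 0 d).subtype (LinearMap.ker g) = LinearMap.range (dPiece F 0 d) := by
      ext v
      rw [mem_range_dPiece_iff]
      constructor
      · rintro ⟨w, hw, rfl⟩
        exact ⟨F.exact_zero.le (LinearMap.mem_ker.mpr hw), w.2⟩
      · rintro ⟨h1, h2⟩
        exact ⟨⟨v, h2⟩, LinearMap.mem_ker.mp (F.exact_zero.ge h1), rfl⟩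
    rw [← e]
    exact (Submodule.equivMapOfInjective _ (piece F 0 d).injective_subtype (LinearMap.ker g)).symm.finrank_eq
  have key : ∀ n, ∑ i ∈ Finset.range (n + 1), (-1 : ℤ) ^ i * (Module.finrank k (piece F i d) : ℤ) =
      (Module.finrank k (ℳ d) : ℤ) + (-1) ^ n * (Module.finrank k (LinearMap.range (dPiece F n d)) : ℤ) := by
    intro n
    induction n with
    | zero => simp [← h0]
    | succ n ih =>
      rw [Finset.sum_range_succ, ih, ← finrank_succ_piece F n d, pow_succ]
      push_cast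
      ring
  rw [key m, range_eq_bot_dPiece F hF d, mul_zero, add_zero]

end Groth.Agent.H3CAlg.Syz
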