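import Groth.Agent.H3CAlg.Syz.Std
import Groth.Agent.H3CAlg.Syz.Gens
import Mathlib

/-!
# Length of minimal graded free resolutions over polynomial rings
-/

namespace Groth.Agent.H3CAlg.Syz

universe u v

open MvPolynomial GrSyz CategoryTheory

variable {k : Type u} [Field k] {σ : Type} [Finite σ]
  {M : Type u} [AddCommGroup M] [Module k M] [Module (MvPolynomial σ k) M]
  [IsScalarTower k (MvPolynomial σ k) M]
  {ℳ : ℤ → Submodule k M} [DirectSum.Decomposition ℳ] [SetLike.GradedSMul (stdGr k σ) ℳ]
  (F : FreeRes (stdGr k σ) ℳ)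

theorem irrel_ne_top : (irrel (stdGr k σ)).toIdeal ≠ ⊤ := fun h => by
  have := (mem_irrel_iff (1 : MvPolynomial σ k)).mp (h ▸ Submodule.mem_top)
  simp at this

omit [Finite σ] in
/-- constant coefficients of a kernel vector of the augmentation vanish for a minimal resolution -/
theorem aug_ker_mem (hF : F.IsMinimal (irrel (stdGr k σ)).toIdeal) {v : Fin (F.rk 0) → MvPolynomial σ k}
    (hv : F.augLin v = 0) (b : Fin (F.rk 0)) : constantCoeff (v b) = 0 := by
  have : v ∈ LinearMap.range (Matrix.mulVecLin (F.d 0)) := F.exact_zero ▸ LinearMap.mem_ker.mpr hv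
  obtain ⟨w, rfl⟩ := this
  simp only [Matrix.mulVecLin_apply, Matrix.mulVec, dotProduct, map_sum, map_mul]
  exact Finset.sum_eq_zero fun c _ => by rw [(mem_irrel_iff _).mp (hF 0 b c), zero_mul]

omit [Finite σ] in
/-- the differential of a minimal resolution has vanishing constant coefficients -/
theorem range_d_mem (hF : F.IsMinimal (irrel (stdGr k σ)).toIdeal) (i : ℕ) {v : Fin (F.rk i) → MvPolynomial σ k}
    (hv : v ∈ LinearMap.range (F.dLin i)) (b : Fin (F.rk i)) : constantCoeff (v b) = 0 := by
  obtain ⟨w, rfl⟩ := hv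
  simp only [Matrix.mulVecLin_apply, Matrix.mulVec, dotProduct, map_sum, map_mul]
  exact Finset.sum_eq_zero fun c _ => by rw [(mem_irrel_iff _).mp (hF i b c), zero_mul]

omit [Finite σ] in
/-- a split kernel all of whose vectors have vanishing constant coefficients is zero -/
theorem ker_eq_bot_of_split [Finite σ] {n : ℕ} {Z : Type u} [AddCommGroup Z] [Module (MvPolynomial σ k) Z]
    [Module.Projective (MvPolynomial σ k) Z] (π : (Fin n → MvPolynomial σ k) →ₗ[MvPolynomial σ k] Z)
    (hπ : Function.Surjective π) (hm : ∀ v, π v = 0 → ∀ b, constantCoeff (v b) = 0) :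
    LinearMap.ker π = ⊥ := by
  classical
  obtain ⟨s, hs⟩ := Module.projective_lifting_property π LinearMap.id hπ
  set K := LinearMap.ker π
  let q : (Fin n → MvPolynomial σ k) →ₗ[MvPolynomial σ k] K :=
    LinearMap.codRestrict K (LinearMap.id - s ∘ₗ π) fun v => by
      show π (v - s (π v)) = 0
      rw [map_sub, show π (s (π v)) = π v from LinearMap.congr_fun hs _, sub_self]
  let 𝔪 := (irrel (stdGr k σ)).toIdeal
  have hle : K ≤ 𝔪 • K := by
    intro v hv
    have h1 : v = ∑ b, v b • ((q (Pi.single b 1) : K) : Fin n → MvPolynomial σ k) := by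
      have h2 : ((q v : K) : Fin n → MvPolynomial σ k) = v := by
        show v - s (π v) = v
        rw [show π v = 0 from hv, map_zero, sub_zero]
      conv_lhs => rw [← h2, pi_eq_sum_univ' v]
      simp
    rw [h1]
    exact Submodule.sum_mem _ fun b _ => Submodule.smul_mem_smul ((mem_irrel_iff _).mpr (hm v hv b)) (q _).2
  haveI : IsNoetherianRing (MvPolynomial σ k) := inferInstance
  obtain ⟨c, hc, hc0⟩ := Submodule.exists_sub_one_mem_and_smul_eq_zero_of_fg_of_le_smul 𝔪 K
    (IsNoetherian.noetherian _) hle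
  rw [eq_bot_iff]
  intro v hv
  have hcne : c ≠ 0 := fun h0 => by
    rw [h0, zero_sub, neg_mem_iff, ← Ideal.eq_top_iff_one] at hc
    exact irrel_ne_top hc
  funext b
  exact (mul_eq_zero.mp (congrFun (hc0 v hv) b)).resolve_left hcne

theorem rk_eq_zero_of_range_eq_bot (hF : F.IsMinimal (irrel (stdGr k σ)).toIdeal) {n : ℕ}
    (h : LinearMap.range (F.dLin n) = ⊥) : ∀ i, n < i → F.rk i = 0 := by
  suffices key : ∀ j, F.rk (n + 1 + j) = 0 ∧ LinearMap.range (F.dLin (n + j)) = ⊥ by
    intro i hi
    obtain ⟨j, rfl⟩ : ∃ j, i = n + 1 + j := ⟨i - (n + 1), by omega⟩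
    exact (key j).1
  have step : ∀ i, LinearMap.range (F.dLin i) = ⊥ → F.rk (i + 1) = 0 ∧ LinearMap.range (F.dLin (i + 1)) = ⊥ := by
    intro i hi
    have h0 : F.rk (i + 1) = 0 := by
      by_contra hne
      let b : Fin (F.rk (i + 1)) := ⟨0, Nat.pos_of_ne_zero hne⟩
      have hb : Pi.single b (1 : MvPolynomial σ k) ∈ LinearMap.range (F.dLin (i + 1)) := by
        refine (F.exact_succ i).le (LinearMap.mem_ker.mpr ?_)
        show F.dLin i (Pi.single b 1) = 0
        rw [LinearMap.range_eq_bot.mp hi, LinearMap.zero_apply]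
      simpa using range_d_mem F hF _ hb b
    refine ⟨h0, ?_⟩
    rw [eq_bot_iff]
    intro v _
    funext b
    exact (Fin.cast h0 b).elim0
  intro j
  induction j with
  | zero => exact ⟨(step n h).1, h⟩
  | succ j ih =>
    have h2 := (step _ ih.2).2
    exact ⟨(step _ h2).1 |> fun h3 => by rwa [show n + 1 + (j + 1) = n + j + 1 + 1 by omega], h2⟩

theorem range_eq_bot_of_hasLengthLE {n : ℕ} (h : F.HasLengthLE n) : LinearMap.range (F.dLin n) = ⊥ := by
  rw [eq_bot_iff]
  rintro _ ⟨w, rfl⟩
  have : w = 0 := funext fun b => (Fin.cast (h (n + 1) (Nat.lt_succ_self n)) b).elim0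
  simp [this]

/-- projective dimension below `n` forces the length of a minimal resolution below `n` -/
theorem hasLengthLE_iff (hF : F.IsMinimal (irrel (stdGr k σ)).toIdeal) (n : ℕ) :
    F.HasLengthLE n ↔ HasProjectiveDimensionLE (ModuleCat.of (MvPolynomial σ k) M) n := by
  -- `Z 0 = M`, `Z (i + 1) = range (d i)`
  let R := MvPolynomial σ k
  let S0 : ShortComplex (ModuleCat.{u} R) :=
    ShortComplex.mk (X₁ := ModuleCat.of R (LinearMap.range (F.dLin 0))) (X₂ := ModuleCat.of R (Fin (F.rk 0) → R))
      (X₃ := ModuleCat.of R M) (ModuleCat.ofHom (LinearMap.range (F.dLin 0)).subtype) (ModuleCat.ofHom F.augLin)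
      (ModuleCat.hom_ext (LinearMap.ext fun x => LinearMap.mem_ker.mp (F.exact_zero.ge x.2)))
  have hS0 : S0.ShortExact :=
    { exact := (ShortComplex.moduleCat_exact_iff _).2 fun x hx => ⟨⟨x, F.exact_zero.le hx⟩, rfl⟩
      mono_f := (ModuleCat.mono_iff_injective _).2 Subtype.val_injective
      epi_g := (ModuleCat.epi_iff_surjective _).2 F.aug_surjective }
  let S : ℕ → ShortComplex (ModuleCat.{u} R) := fun i =>
    ShortComplex.mk (X₁ := ModuleCat.of R (LinearMap.range (F.dLin (i + 1))))
      (X₂ := ModuleCat.of R (Fin (F.rk (i + 1)) → R)) (X₃ := ModuleCat.of R (LinearMap.range (F.dLin i)))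
      (ModuleCat.ofHom (LinearMap.range (F.dLin (i + 1))).subtype) (ModuleCat.ofHom (F.dLin i).rangeRestrict)
      (ModuleCat.hom_ext (LinearMap.ext fun x => Subtype.ext (LinearMap.mem_ker.mp ((F.exact_succ i).ge x.2))))
  have hS : ∀ i, (S i).ShortExact := fun i =>
    { exact := (ShortComplex.moduleCat_exact_iff _).2 fun x hx =>
        ⟨⟨x, (F.exact_succ i).le (LinearMap.mem_ker.mpr (congrArg Subtype.val hx))⟩, rfl⟩
      mono_f := (ModuleCat.mono_iff_injective _).2 Subtype.val_injective
      epi_g := (ModuleCat.epi_iff_surjective _).2 (F.dLin i).surjective_rangeRestrict }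
  haveI hproj : ∀ m, CategoryTheory.Projective (ModuleCat.of R (Fin m → R)) := fun m =>
    (IsProjective.iff_projective (Fin m → R)).mp inferInstance
  constructor
  · intro h
    have hlast : ∀ i, HasProjectiveDimensionLT (ModuleCat.of R (LinearMap.range (F.dLin i))) (n - i) := by
      intro i
      induction hd : n - i generalizing i with
      | zero =>
        have : LinearMap.range (F.dLin i) = ⊥ := range_eq_bot_of_hasLengthLE F fun j hj => h j (by omega)
        haveI : Subsingleton (LinearMap.range (F.dLin i)) := by rw [this]; infer_instance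
        exact (ModuleCat.isZero_of_subsingleton _).hasProjectiveDimensionLT_zero
      | succ m ih =>
        have h1 := ih (i + 1) (by omega)
        exact (hS i).hasProjectiveDimensionLT_X₃ m h1 inferInstance
    haveI := hlast 0
    exact hS0.hasProjectiveDimensionLT_X₃ n (by simpa using hlast 0) inferInstance
  · intro h
    have hpd : ∀ i, i ≤ n → HasProjectiveDimensionLT (ModuleCat.of R (LinearMap.range (F.dLin i))) (n - i) →
        LinearMap.range (F.dLin n) = ⊥ := by
      intro i hi
      induction hd : n - i generalizing i with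
      | zero =>
        intro h0
        obtain rfl : i = n := by omega
        exact LinearMap.range_eq_bot.mpr (LinearMap.range_eq_bot.mp
          ((Submodule.subsingleton_iff_eq_bot).mp (ModuleCat.subsingleton_of_isZero
            ((hasProjectiveDimensionLT_zero_iff_isZero _).mp h0))))
      | succ m ih =>
        intro h1
        rcases Nat.eq_zero_or_pos m with rfl | hm
        · -- the image is projective, so its presentation splits
          obtain rfl : n = i + 1 := by omega
          haveI := projective_iff_hasProjectiveDimensionLT_one.mpr h1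
          haveI : Module.Projective R (LinearMap.range (F.dLin i)) :=
            (IsProjective.iff_projective _).mpr this
          rw [← F.exact_succ i]
          refine Eq.trans (LinearMap.ker_rangeRestrict _).symm
            (ker_eq_bot_of_split _ (F.dLin i).surjective_rangeRestrict fun v hv b => ?_)
          exact range_d_mem F hF (i + 1) ((F.exact_succ i).le (LinearMap.mem_ker.mpr (congrArg Subtype.val hv))) b
        · refine ih (i + 1) (by omega) (by omega) ?_
          obtain ⟨l, rfl⟩ : ∃ l, m = l + 1 := ⟨m - 1, by omega⟩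
          exact (hS i).hasProjectiveDimensionLT_X₁ (l + 1) inferInstance h1
    refine rk_eq_zero_of_range_eq_bot F hF ?_
    cases n with
    | zero =>
      haveI := projective_iff_hasProjectiveDimensionLT_one.mpr h
      haveI : Module.Projective R M := (IsProjective.iff_projective _).mpr this
      rw [← F.exact_zero]
      exact ker_eq_bot_of_split _ F.aug_surjective fun v hv b => aug_ker_mem F hF hv b
    | succ n =>
      refine hpd 0 (Nat.zero_le _) ?_
      exact hS0.hasProjectiveDimensionLT_X₁ (n + 1) inferInstance h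

section Bound

variable {r : ℕ} {M : Type u} [AddCommGroup M] [Module k M] [Module (MvPolynomial (Fin (r + 1)) k) M]
  [IsScalarTower k (MvPolynomial (Fin (r + 1)) k) M]
  {ℳ : ℤ → Submodule k M} [DirectSum.Decomposition ℳ] [SetLike.GradedSMul (stdGr k (Fin (r + 1))) ℳ]
  (F : FreeRes (stdGr k (Fin (r + 1))) ℳ)

/-- ideal of the first `j` variables -/
noncomputable def firstVars (k : Type u) [Field k] (r j : ℕ) : Ideal (MvPolynomial (Fin (r + 1)) k) :=
  Ideal.span (MvPolynomial.X '' {i : Fin (r + 1) | i.val < j})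

theorem mem_of_X_mul_mem {j : Fin (r + 1)} {p : MvPolynomial (Fin (r + 1)) k}
    (h : X j * p ∈ firstVars k r j.val) : p ∈ firstVars k r j.val := by
  rw [firstVars, mem_ideal_span_X_image] at h ⊢
  intro d hd
  have hd' : Finsupp.single j 1 + d ∈ (X j * p).support := by
    rw [mem_support_iff, coeff_X_mul]
    exact mem_support_iff.mp hd
  obtain ⟨i, hi, hne⟩ := h _ hd'
  refine ⟨i, hi, ?_⟩
  have hij : i ≠ j := fun h' => lt_irrefl j.val (h' ▸ (hi : i.val < j.val))
  simpa [Finsupp.add_apply, Finsupp.single_eq_of_ne hij] using hne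

theorem exact_mod_firstVars (j : ℕ) (hj : j ≤ r + 1) : ∀ i, j ≤ i → ∀ v : Fin (F.rk (i + 1)) → MvPolynomial (Fin (r + 1)) k,
    (∀ a, F.dLin i v a ∈ firstVars k r j) → ∃ u, ∀ a, v a - F.dLin (i + 1) u a ∈ firstVars k r j := by
  induction j with
  | zero =>
    intro i _ v hv
    have h0 : firstVars k r 0 = ⊥ := by simp [firstVars]
    have : v ∈ LinearMap.range (F.dLin (i + 1)) := by
      rw [← F.exact_succ i, LinearMap.mem_ker]
      funext a
      simpa [h0] using hv a
    obtain ⟨u, rfl⟩ := this
    exact ⟨u, fun a => by simp⟩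
  | succ j ih =>
    intro i hi v hv
    obtain ⟨i, rfl⟩ : ∃ l, i = l + 1 := ⟨i - 1, by omega⟩
    let jf : Fin (r + 1) := ⟨j, by omega⟩
    have hsucc : firstVars k r (j + 1) = Ideal.span {X jf} ⊔ firstVars k r j := by
      rw [firstVars, firstVars, ← Ideal.span_union, Set.singleton_union, ← Set.image_insert_eq]
      congr 2
      ext x
      simp only [Set.mem_setOf_eq, Set.mem_insert_iff, Fin.ext_iff, jf]
      omega
    have hsplit : ∀ a, ∃ c, F.dLin (i + 1) v a - X jf * c ∈ firstVars k r j := by
      intro a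
      have h := hv a
      rw [hsucc] at h
      obtain ⟨y, hy, z, hz, hyz⟩ := Submodule.mem_sup.mp h
      obtain ⟨c, rfl⟩ := Ideal.mem_span_singleton.mp hy
      exact ⟨c, by rwa [← hyz, add_sub_cancel_left]⟩
    choose w hw using hsplit
    have hdw : ∀ a, F.dLin i w a ∈ firstVars k r j := by
      intro a
      refine mem_of_X_mul_mem (j := jf) ?_
      have h1 : F.dLin i (F.dLin (i + 1) v - (X jf : MvPolynomial (Fin (r + 1)) k) • w) a ∈ firstVars k r j := by
        simp only [Matrix.mulVecLin_apply, Matrix.mulVec, dotProduct, Pi.sub_apply, Pi.smul_apply, smul_eq_mul]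
        exact Ideal.sum_mem _ fun c _ => Ideal.mul_mem_left _ (F.d i a c) (hw c)
      rw [map_sub, map_smul, show F.dLin i (F.dLin (i + 1) v) = 0 from
        LinearMap.mem_ker.mp ((F.exact_succ i).ge (LinearMap.mem_range_self _ v)), zero_sub, Pi.neg_apply,
        neg_mem_iff] at h1
      exact h1
    obtain ⟨u, hu⟩ := ih (by omega) i (by omega) w hdw
    have hd : ∀ a, F.dLin (i + 1) (v - (X jf : MvPolynomial (Fin (r + 1)) k) • u) a ∈ firstVars k r j := by
      intro a
      rw [map_sub, map_smul, Pi.sub_apply, Pi.smul_apply, smul_eq_mul,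
        show F.dLin (i + 1) v a - X jf * F.dLin (i + 1) u a =
          (F.dLin (i + 1) v a - X jf * w a) + X jf * (w a - F.dLin (i + 1) u a) by ring]
      exact add_mem (hw a) (Ideal.mul_mem_left _ _ (hu a))
    obtain ⟨u', hu'⟩ := ih (by omega) (i + 1) (by omega) _ hd
    refine ⟨u', fun a => ?_⟩
    rw [hsucc, show v a - F.dLin (i + 1 + 1) u' a = X jf * u a +
      ((v - (X jf : MvPolynomial (Fin (r + 1)) k) • u) a - F.dLin (i + 1 + 1) u' a) by simp; ring]
    exact Submodule.add_mem_sup (Ideal.mul_mem_right _ _ (Ideal.mem_span_singleton_self _)) (hu' a)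

/-- Hilbert's syzygy theorem for minimal resolutions -/
theorem hasLengthLE_of_isMinimal (hF : F.IsMinimal (irrel (stdGr k (Fin (r + 1)))).toIdeal) :
    F.HasLengthLE (r + 1) := by
  intro i hi
  by_contra hne
  obtain ⟨i, rfl⟩ : ∃ l, i = l + 1 := ⟨i - 1, by omega⟩
  let b : Fin (F.rk (i + 1)) := ⟨0, Nat.pos_of_ne_zero hne⟩
  have hall : ∀ p : MvPolynomial (Fin (r + 1)) k, p ∈ firstVars k r (r + 1) ↔ constantCoeff p = 0 := by
    intro p
    rw [firstVars, mem_ideal_span_X_image]
    refine ⟨fun h => ?_, fun h d hd => ?_⟩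
    · by_contra hc
      obtain ⟨i, -, hne⟩ := h 0 (mem_support_iff.mpr hc)
      exact hne rfl
    · obtain ⟨i, hi⟩ := Finsupp.ne_iff.mp (fun h0 : d = 0 => mem_support_iff.mp hd (h0 ▸ h))
      exact ⟨i, i.isLt, hi⟩
  obtain ⟨u, hu⟩ := exact_mod_firstVars F (r + 1) le_rfl i (by omega) (Pi.single b 1) fun a =>
    (hall _).mpr (range_d_mem F hF i (LinearMap.mem_range_self _ _) a)
  have h1 := (hall _).mp (hu b)
  rw [map_sub, range_d_mem F hF (i + 1) (LinearMap.mem_range_self _ u) b] at h1
  simp at h1

end Bound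

end Groth.Agent.H3CAlg.Syz
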