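import Groth.Agent.H3CAlg.KC.CM
import Groth.Agent.H3CAlg.Syz.Hilbert

/-!
# Degree matrices of minimal resolutions; resolutions with bounded Hilbert function
-/

namespace Groth.Agent.H3CAlg.Syz

universe u

open MvPolynomial GrSyz

variable {k : Type u} [Field k] {r : ℕ}
variable {M : Type u} [AddCommGroup M] [Module k M] [Module (MvPolynomial (Fin (r + 1)) k) M]
  [IsScalarTower k (MvPolynomial (Fin (r + 1)) k) M]
  {ℳ : ℤ → Submodule k M} [DirectSum.Decomposition ℳ] [SetLike.GradedSMul (stdGr k (Fin (r + 1))) ℳ]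
  (F : FreeRes (stdGr k (Fin (r + 1))) ℳ) (hF : F.IsMinimal (irrel (stdGr k (Fin (r + 1)))).toIdeal)

include hF

theorem d_eq_zero_of_le {i : ℕ} {a : Fin (F.rk i)} {b : Fin (F.rk (i + 1))} (h : F.deg (i + 1) b ≤ F.deg i a) :
    F.d i a b = 0 := by
  rcases lt_or_eq_of_le h with h | h
  · exact stdGr_eq_zero (by omega) (F.d_mem i a b)
  · have h0 := F.d_mem i a b
    rw [h, sub_self] at h0
    rw [mem_stdGr_zero h0, (mem_irrel_iff _).mp (hF i a b), map_zero]

/-- no basis vector of `F₁` is killed by the differential -/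
theorem d_zero_column_ne_zero (l : Fin (F.rk 1)) : F.dLin 0 (Pi.single l 1) ≠ 0 := by
  intro h
  have h1 := range_d_mem F hF 1 ((F.exact_succ 0).le (LinearMap.mem_ker.mpr h)) l
  simp at h1

/-- the degree inequality along the diagonal of a Hilbert–Burch degree matrix -/
theorem lt_deg_of_antitone (hlen : F.HasLengthLE 2) {t : ℕ} (h1 : F.rk 1 = t + 1) (h2 : F.rk 2 = t)
    (ha : ∀ i j : Fin (t + 1), i ≤ j → F.deg 1 (Fin.cast h1.symm j) ≤ F.deg 1 (Fin.cast h1.symm i))
    (hb : ∀ i j : Fin t, i ≤ j → F.deg 2 (Fin.cast h2.symm j) ≤ F.deg 2 (Fin.cast h2.symm i)) (i : Fin t) :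
    F.deg 1 (Fin.cast h1.symm i.castSucc) < F.deg 2 (Fin.cast h2.symm i) := by
  classical
  by_contra hle
  push Not at hle
  let S := MvPolynomial (Fin (r + 1)) k
  let rows : Finset (Fin (F.rk 1)) := Finset.univ.filter fun l => i.val < l.val
  let cols : Finset (Fin (F.rk 2)) := Finset.univ.filter fun c => i.val ≤ c.val
  have hblock : ∀ l ∉ rows, ∀ c ∈ cols, F.d 1 l c = 0 := by
    intro l hl c hc
    simp only [rows, cols, Finset.mem_filter, Finset.mem_univ, true_and, not_lt] at hl hc
    refine d_eq_zero_of_le F hF ?_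
    have e1 : F.deg 2 c ≤ F.deg 2 (Fin.cast h2.symm i) := hb i (Fin.cast h2 c) hc
    have e2 : F.deg 1 (Fin.cast h1.symm i.castSucc) ≤ F.deg 1 l := ha (Fin.cast h1 l) i.castSucc hl
    exact le_trans e1 (le_trans hle e2)
  have hinj : Function.Injective (F.dLin 1) := by
    rw [← LinearMap.ker_eq_bot, F.exact_succ 1]
    exact range_eq_bot_of_hasLengthLE F hlen
  have hcard : rows.card = cols.card := by
    have e1 : rows.card = t - i.val := by
      rw [show rows = Finset.Ioi (Fin.cast h1.symm i.castSucc) by ext l; simp [rows, Fin.lt_def], Fin.card_Ioi]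
      simp only [Fin.val_cast, Fin.val_castSucc]
      omega
    have e2 : cols.card = t - i.val := by
      rw [show cols = Finset.Ici (Fin.cast h2.symm i) by ext l; simp [cols, Fin.le_def], Fin.card_Ici]
      simp only [Fin.val_cast]
      omega
    omega
  obtain ⟨l, hl⟩ : rows.Nonempty :=
    ⟨Fin.cast h1.symm (Fin.last t), Finset.mem_filter.mpr ⟨Finset.mem_univ _, by simp⟩⟩
  let res : (Fin (F.rk 1) → S) →ₗ[S] (rows → S) := LinearMap.pi fun a => LinearMap.proj a.1
  let g : Option cols → (rows → S) := fun o => o.elim (res (Pi.single l 1)) fun c => res (F.dLin 1 (Pi.single c.1 1))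
  have hdep : ¬ LinearIndependent S g := fun h => by
    have := h.fintype_card_le_finrank
    simp only [Fintype.card_option, Fintype.card_coe, Module.finrank_pi] at this
    omega
  obtain ⟨c, hc, o, ho⟩ := Fintype.not_linearIndependent_iff.mp hdep
  rw [Fintype.sum_option] at hc
  let v : Fin (F.rk 2) → S := ∑ j : cols, c (some j) • Pi.single j.1 1
  have hout : ∀ a ∉ rows, F.dLin 1 v a = 0 := by
    intro a ha'
    simp only [v, map_sum, map_smul, Finset.sum_apply, Pi.smul_apply]
    refine Finset.sum_eq_zero fun j _ => ?_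
    rw [Matrix.mulVecLin_apply, Matrix.mulVec_single_one, Matrix.col_apply, hblock a ha' j.1 j.2, smul_zero]
  have hin : F.dLin 1 v = -(c none • Pi.single l 1) := by
    funext a
    by_cases ha' : a ∈ rows
    · have := congrFun hc ⟨a, ha'⟩
      simp only [g, res, Option.elim, Pi.add_apply, Finset.sum_apply, Pi.smul_apply, LinearMap.pi_apply,
        LinearMap.proj_apply, Pi.zero_apply] at this
      rw [eq_comm, Pi.neg_apply, neg_eq_iff_add_eq_zero]
      simp only [v, map_sum, map_smul, Finset.sum_apply, Pi.smul_apply]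
      exact this
    · rw [hout a ha', Pi.neg_apply, Pi.smul_apply, Pi.single_eq_of_ne (fun h : a = l => ha' (h ▸ hl)), smul_zero,
        neg_zero]
  have h0 : c none • F.dLin 0 (Pi.single l 1) = 0 := by
    have := LinearMap.mem_ker.mp ((F.exact_succ 0).ge ⟨v, rfl⟩)
    rwa [hin, map_neg, map_smul, neg_eq_zero] at this
  have hnone : c none = 0 := (smul_eq_zero.mp h0).resolve_right (d_zero_column_ne_zero F hF l)
  rw [hnone, zero_smul, neg_zero, ← map_zero (F.dLin 1)] at hin
  have hv0 := hinj hin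
  rcases o with _ | j
  · exact ho hnone
  · refine ho ?_
    have := congrFun hv0 j.1
    simp only [v, Finset.sum_apply, Pi.smul_apply, Pi.zero_apply] at this
    rw [Finset.sum_eq_single j (fun j' _ hne => by
      rw [Pi.single_eq_of_ne (fun h => hne (Subtype.ext h).symm), smul_zero]) (fun h => absurd (Finset.mem_univ j) h),
      Pi.single_eq_same, smul_eq_mul, mul_one] at this
    exact this

/-- a cyclic module generated in degree zero has `F₀ = S` -/
theorem rk_zero_of_cyclic [Nontrivial M] (m₀ : M) (hm₀ : m₀ ∈ ℳ 0)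
    (hgen : ∀ m : M, ∃ p : MvPolynomial (Fin (r + 1)) k, p • m₀ = m) :
    F.rk 0 = 1 ∧ ∀ b, F.deg 0 b = 0 := by
  obtain ⟨v', hv'⟩ := F.aug_surjective m₀
  let v := vcmp (stdGr k (Fin (r + 1))) (F.deg 0) 0 v'
  have hv : F.augLin v = m₀ := by
    rw [← comp_linearCombination (F.deg 0) (isProj_P _ ℳ) F.aug (fun b => (P_eq_self_iff ℳ).mpr (F.aug_mem b)), hv',
      P_of_mem ℳ hm₀, if_pos rfl]
  have hmem : ∀ a, v a ∈ stdGr k (Fin (r + 1)) (-F.deg 0 a) := fun a => by
    have := P_mem (stdGr k (Fin (r + 1))) (0 - F.deg 0 a) (v' a)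
    rw [zero_sub] at this
    show P (stdGr k (Fin (r + 1))) (0 - F.deg 0 a) (v' a) ∈ _
    rw [zero_sub]
    exact this
  have key : ∀ b, ∃ s : MvPolynomial (Fin (r + 1)) k, ∀ a,
      constantCoeff ((Pi.single b 1 : Fin (F.rk 0) → MvPolynomial (Fin (r + 1)) k) a) = constantCoeff s * constantCoeff (v a) := by
    intro b
    obtain ⟨s, hs⟩ := hgen (F.augLin (Pi.single b 1))
    refine ⟨s, fun a => ?_⟩
    have h0 := aug_ker_mem F hF (v := Pi.single b 1 - s • v) (by rw [map_sub, map_smul, hv, hs, sub_self]) a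
    rw [Pi.sub_apply, map_sub, Pi.smul_apply, smul_eq_mul, map_mul, sub_eq_zero] at h0
    exact h0
  have hdeg : ∀ b, F.deg 0 b = 0 := by
    intro b
    obtain ⟨s, hs⟩ := key b
    by_contra hne
    have h0 : constantCoeff (v b) = 0 := (mem_irrel_iff _).mp (mem_irrel_of_mem (by omega) (hmem b))
    have := hs b
    rw [Pi.single_eq_same, map_one, h0, mul_zero] at this
    exact one_ne_zero this
  refine ⟨?_, hdeg⟩
  have hle : F.rk 0 ≤ 1 := by
    by_contra hgt
    let a : Fin (F.rk 0) := ⟨0, by omega⟩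
    let b : Fin (F.rk 0) := ⟨1, by omega⟩
    have hab : a ≠ b := fun h => by simpa [a, b] using congrArg Fin.val h
    obtain ⟨s, hs⟩ := key a
    obtain ⟨s', hs'⟩ := key b
    have e1 := hs a
    have e2 := hs b
    have e3 := hs' b
    rw [Pi.single_eq_same, map_one] at e1 e3
    rw [Pi.single_eq_of_ne hab.symm, map_zero] at e2
    rcases mul_eq_zero.mp e2.symm with h | h
    · rw [h, zero_mul] at e1; exact one_ne_zero e1
    · rw [h, mul_zero] at e3; exact one_ne_zero e3
  rcases Nat.eq_zero_or_pos (F.rk 0) with h0 | h0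
  · exfalso
    obtain ⟨m, hm⟩ := exists_ne (0 : M)
    obtain ⟨w, rfl⟩ := F.aug_surjective m
    refine hm ?_
    have : w = 0 := funext fun a => absurd a.isLt (by omega)
    rw [this, map_zero]
  · omega

end Groth.Agent.H3CAlg.Syz
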