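import Groth.Agent.H3CAlg.Syz.Basic

/-!
# The standard grading of a polynomial ring: degree zero, the irrelevant ideal, dimensions of pieces
-/

namespace Groth.Agent.H3CAlg.Syz

universe u v

open MvPolynomial GrSyz

variable {k : Type u} [Field k] {σ : Type v}

theorem stdGr_natCast (n : ℕ) : stdGr k σ (n : ℤ) = homogeneousSubmodule σ k n := by
  ext p
  rw [mem_stdGr_iff, mem_homogeneousSubmodule]
  have key : ∀ d : σ →₀ ℕ, Finsupp.weight (fun _ : σ => (1 : ℤ)) d = (d.degree : ℤ) := fun d => by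
    simp [Finsupp.weight_apply, Finsupp.degree_apply, Finsupp.sum]
  refine ⟨fun h d hd => ?_, fun h d hd => ?_⟩
  · have h' := (key d).symm.trans (h hd)
    rw [Finsupp.degree_eq_weight_one] at h'
    exact_mod_cast h'
  · rw [key, Finsupp.degree_eq_weight_one]
    exact congrArg Nat.cast (h hd)

theorem stdGr_eq_zero {j : ℤ} (hj : j < 0) {p : MvPolynomial σ k} (hp : p ∈ stdGr k σ j) : p = 0 := by
  by_contra hne
  obtain ⟨d, hd⟩ := ne_zero_iff.mp hne
  have h := hp hd
  simp only [Finsupp.weight_apply, Finsupp.sum] at h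
  have : (0 : ℤ) ≤ ∑ a ∈ d.support, d a • (1 : ℤ) := Finset.sum_nonneg fun _ _ => by simp
  omega

theorem mem_stdGr_zero {p : MvPolynomial σ k} (hp : p ∈ stdGr k σ 0) : p = C (constantCoeff p) := by
  classical
  have h : p ∈ homogeneousSubmodule σ k 0 := by rw [← stdGr_natCast]; exact hp
  rw [mem_homogeneousSubmodule] at h
  ext d
  by_cases hd : d = 0
  · subst hd
    rw [coeff_C, if_pos rfl]
    rfl
  · rw [coeff_C, if_neg (fun h' => hd h'.symm)]
    refine h.coeff_eq_zero ?_
    rwa [ne_eq, Finsupp.degree_eq_zero_iff]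

theorem P_zero_eq (p : MvPolynomial σ k) : P (stdGr k σ) 0 p = C (constantCoeff p) := by
  classical
  obtain ⟨s, hs⟩ := exists_sum_P (stdGr k σ) p
  rw [mem_stdGr_zero (P_mem (stdGr k σ) 0 p)]
  congr 1
  conv_rhs => rw [hs, map_sum]
  rw [Finset.sum_eq_single 0]
  · intro j _ hj
    by_cases hneg : j < 0
    · rw [stdGr_eq_zero hneg (P_mem _ j p), map_zero]
    · obtain ⟨n, rfl⟩ : ∃ n : ℕ, j = n := ⟨j.toNat, by omega⟩
      have h : P (stdGr k σ) (n : ℤ) p ∈ homogeneousSubmodule σ k n := by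
        rw [← stdGr_natCast]; exact P_mem _ _ p
      rw [mem_homogeneousSubmodule] at h
      refine h.coeff_eq_zero ?_
      rw [map_zero]
      omega
  · intro h0
    conv_lhs => rw [hs, map_sum]
    rw [Finset.sum_eq_zero fun j hj => ?_, map_zero]
    rw [P_of_mem _ (P_mem _ j p), if_neg fun hj0 : j = 0 => h0 (by rwa [← hj0])]

theorem isUnit_of_mem_stdGr_zero (p : MvPolynomial σ k) (hp : p ∈ stdGr k σ 0) : p = 0 ∨ IsUnit p := by
  rw [mem_stdGr_zero hp]
  rcases eq_or_ne (constantCoeff p) 0 with h | h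
  · left; rw [h, map_zero]
  · exact Or.inr ((isUnit_iff_ne_zero.mpr h).map C)

theorem mem_irrel_iff (p : MvPolynomial σ k) :
    p ∈ (irrel (stdGr k σ)).toIdeal ↔ constantCoeff p = 0 := by
  classical
  constructor
  · intro hp
    refine (Ideal.span_le (I := RingHom.ker (constantCoeff : MvPolynomial σ k →+* k))).mpr ?_ hp
    rintro r ⟨n, hn, hr⟩
    have h := P_zero_eq r
    rw [P_of_mem _ hr, if_neg (by omega), eq_comm] at h
    exact (C_injective σ k) (h.trans (map_zero C).symm)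
  · intro hp
    obtain ⟨s, hs⟩ := exists_sum_P (stdGr k σ) p
    rw [hs]
    refine Ideal.sum_mem _ fun j _ => ?_
    rcases lt_trichotomy j 0 with hj | hj | hj
    · rw [stdGr_eq_zero hj (P_mem _ j p)]
      exact zero_mem _
    · subst hj
      rw [P_zero_eq, hp, map_zero]
      exact zero_mem _
    · exact Ideal.subset_span ⟨j, hj, P_mem _ j p⟩

theorem mem_irrel_of_mem {j : ℤ} (hj : j ≠ 0) {p : MvPolynomial σ k} (hp : p ∈ stdGr k σ j) :
    p ∈ (irrel (stdGr k σ)).toIdeal := by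
  rw [mem_irrel_iff]
  have h := P_zero_eq p
  rw [P_of_mem _ hp, if_neg hj, eq_comm] at h
  exact (C_injective σ k) (h.trans (map_zero C).symm)

theorem finrank_stdGr (r : ℕ) (j : ℤ) :
    Module.finrank k (stdGr k (Fin (r + 1)) j) = if 0 ≤ j then Nat.choose (r + j.toNat) r else 0 := by
  split_ifs with h
  · obtain ⟨n, rfl⟩ : ∃ n : ℕ, j = n := ⟨j.toNat, by omega⟩
    rw [stdGr_natCast, Int.toNat_natCast, Nat.add_comm r n]
    exact (finrank_homogeneous (k := k) r n).2
  · have : stdGr k (Fin (r + 1)) j = ⊥ :=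
      (Submodule.eq_bot_iff _).mpr fun p hp => stdGr_eq_zero (not_le.mp h) hp
    rw [this, finrank_bot]

theorem finite_stdGr (r : ℕ) (j : ℤ) : Module.Finite k (stdGr k (Fin (r + 1)) j) := by
  by_cases h : 0 ≤ j
  · obtain ⟨n, rfl⟩ : ∃ n : ℕ, j = n := ⟨j.toNat, by omega⟩
    rw [stdGr_natCast]
    exact (finrank_homogeneous (k := k) r n).1
  · rw [show stdGr k (Fin (r + 1)) j = ⊥ from
      (Submodule.eq_bot_iff _).mpr fun p hp => stdGr_eq_zero (not_le.mp h) hp]
    infer_instance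

end Groth.Agent.H3CAlg.Syz
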