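import Groth.Agent.H3CAlg.Syz.Length
import Mathlib.Algebra.Category.ModuleCat.Monoidal.Closed
import Mathlib.Algebra.Category.ModuleCat.Projective
import Mathlib.Algebra.Category.ModuleCat.Abelian
import Mathlib.Algebra.Homology.ShortComplex.ModuleCat
import Mathlib.CategoryTheory.Abelian.LeftDerived
import Mathlib.CategoryTheory.Monoidal.Tor
import Mathlib.LinearAlgebra.TensorProduct.Pi
import Mathlib.RingTheory.Length

/-!
# `Tor` against the residue field from a minimal graded free resolution
-/

namespace Groth.Agent.H3CAlg.Syz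

universe u

open CategoryTheory CategoryTheory.Limits MonoidalCategory GrSyz

section General

variable {R : Type u} [CommRing R] {σ' : Type u} [SetLike σ' R] [AddSubgroupClass σ' R] {𝒜 : ℤ → σ'}
  [GradedRing 𝒜] {M : Type u} [AddCommGroup M] [Module R M] {τ : Type u} [SetLike τ M] [AddSubgroupClass τ M]
  {ℳ : ℤ → τ} [DirectSum.Decomposition ℳ] [SetLike.GradedSMul 𝒜 ℳ] (F : FreeRes 𝒜 ℳ)

/-- the chain complex of a free resolution -/
noncomputable def resComplex : ChainComplex (ModuleCat.{u} R) ℕ :=
  ChainComplex.of (fun i => ModuleCat.of R (Fin (F.rk i) → R)) (fun i => ModuleCat.ofHom (F.dLin i))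
    fun i => ModuleCat.hom_ext (LinearMap.ext fun x =>
      LinearMap.mem_ker.mp ((F.exact_succ i).ge (LinearMap.mem_range_self _ x)))

theorem resComplex_d (j : ℕ) : (resComplex F).d (j + 1) j = ModuleCat.ofHom (F.dLin j) := by
  simp [resComplex]

theorem resComplex_w : ModuleCat.ofHom (F.dLin 0) ≫ ModuleCat.ofHom F.augLin = 0 :=
  ModuleCat.hom_ext (LinearMap.ext fun x => LinearMap.mem_ker.mp (F.exact_zero.ge (LinearMap.mem_range_self _ x)))

/-- a free resolution as a projective resolution -/
noncomputable def projRes : ProjectiveResolution (ModuleCat.of R M) where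
  complex := resComplex F
  projective n := by
    show Projective (ModuleCat.of R (Fin (F.rk n) → R))
    exact ModuleCat.projective_of_categoryTheory_projective _
  π := (ChainComplex.toSingle₀Equiv _ _).symm ⟨ModuleCat.ofHom F.augLin, by
    rw [resComplex_d]; exact resComplex_w F⟩
  quasiIso := ⟨fun n => by
    cases n
    · rw [ChainComplex.quasiIsoAt₀_iff, ShortComplex.quasiIso_iff_of_zeros']
      · have hex : (ShortComplex.mk (ModuleCat.ofHom (F.dLin 0)) (ModuleCat.ofHom F.augLin) (resComplex_w F)).Exact := by
          rw [ShortComplex.moduleCat_exact_iff]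
          intro x hx
          exact F.exact_zero.le (LinearMap.mem_ker.mpr hx)
        refine (ShortComplex.exact_and_epi_g_iff_of_iso ?_).2
          ⟨hex, (ModuleCat.epi_iff_surjective _).mpr F.aug_surjective⟩
        refine ShortComplex.isoMk (Iso.refl _) (Iso.refl _) (Iso.refl _) ?_ ?_
        · exact (Category.id_comp _).trans ((resComplex_d F 0).symm.trans (Category.comp_id _).symm)
        · exact (Category.id_comp _).trans (Category.comp_id _).symm
      all_goals rfl
    · rename_i n
      rw [quasiIsoAt_iff_exactAt']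
      · rw [HomologicalComplex.exactAt_iff' _ (n + 1 + 1) (n + 1) n (by simp) (by simp),
          ShortComplex.moduleCat_exact_iff]
        intro x hx
        change (resComplex F).d (n + 1) n x = 0 at hx
        rw [resComplex_d F n] at hx
        obtain ⟨y, hy⟩ := (F.exact_succ n).le (LinearMap.mem_ker.mpr hx)
        refine ⟨y, ?_⟩
        change (resComplex F).d (n + 1 + 1) (n + 1) y = x
        rw [resComplex_d F (n + 1)]
        exact hy
      · apply ChainComplex.exactAt_succ_single_obj⟩

/-- for a resolution with entries in `J`, `Tor_i(R/J, M)` is `(R/J)^{rk i}` -/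
theorem nonempty_tor_iso (J : Ideal R) (hF : F.IsMinimal J) (i : ℕ) :
    Nonempty (((CategoryTheory.Tor (ModuleCat.{u} R) i).obj (ModuleCat.of R (R ⧸ J))).obj (ModuleCat.of R M) ≅
      ModuleCat.of R (Fin (F.rk i) → R ⧸ J)) := by
  let G := (tensoringLeft (ModuleCat.{u} R)).obj (ModuleCat.of R (R ⧸ J))
  let K := (G.mapHomologicalComplex (ComplexShape.down ℕ)).obj (projRes F).complex
  have hzero : ∀ j, LinearMap.lTensor (R ⧸ J) (F.dLin j) = 0 := by
    intro j
    refine TensorProduct.ext' fun q v => ?_
    rw [LinearMap.lTensor_tmul, LinearMap.zero_apply, pi_eq_sum_univ (F.dLin j v), TensorProduct.tmul_sum]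
    refine Finset.sum_eq_zero fun a _ => ?_
    rw [← TensorProduct.smul_tmul]
    obtain ⟨q, rfl⟩ := Ideal.Quotient.mk_surjective q
    have : F.dLin j v a • Ideal.Quotient.mk J q = 0 := Ideal.Quotient.eq_zero_iff_mem.mpr (J.mul_mem_right q (by
      rw [Matrix.mulVecLin_apply]
      simp only [Matrix.mulVec, dotProduct]
      exact Ideal.sum_mem _ fun b _ => J.mul_mem_right _ (hF j a b)))
    rw [this, TensorProduct.zero_tmul]
  have hd : ∀ a b, K.d a b = 0 := by
    intro a b
    by_cases h : b + 1 = a
    · subst h
      show G.map ((resComplex F).d (b + 1) b) = 0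
      rw [resComplex_d]
      exact ModuleCat.hom_ext (hzero b)
    · exact HomologicalComplex.shape _ _ _ h
  refine ⟨(projRes F).isoLeftDerivedObj G i ≪≫ ?_⟩
  exact (ShortComplex.HomologyData.ofZeros (K.sc i) (hd _ _) (hd _ _)).left.homologyIso ≪≫
    (TensorProduct.piScalarRight R R (R ⧸ J) (Fin (F.rk i))).toModuleIso

end General

theorem length_pi_simple {R : Type u} [CommRing R] (I : Ideal R) [I.IsMaximal] (n : ℕ) :
    Module.length R (Fin n → R ⧸ I) = (n : ℕ∞) := by
  haveI : IsSimpleModule R (R ⧸ I) := isSimpleModule_iff_isCoatom.mpr (Ideal.isMaximal_def.mp ‹_›)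
  simp [Module.length_eq_one]

end Groth.Agent.H3CAlg.Syz
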